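import Cfsg.Agent.Lib.ThreeTransp.M22.Involutions

/-!
The involutions of a group of type M(23), given that the local groups are of type M(22).
-/

set_option autoImplicit false
set_option linter.unusedSectionVars false

namespace Cfsg.Agent.ThreeTransp.M23

open Cfsg.Agent.ThreeTransp
open Cfsg.Agent.ThreeTransp.Factor (nb Hd mem_Hd Sd Dq Dl Sep Rel Hd_commute)
open Cfsg.Agent.ThreeTransp.RankThree (loc)
open Cfsg.Agent.ThreeTransp.M22 (IsProd)

variable {G : Type*} [Group G] {D : Set G}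

/-- The local facts at every member. -/
structure Base (D : Set G) : Prop where
  sep : ∀ a ∈ D, Sep D a
  nondeg : ∀ a ∈ D, ∀ x ∈ Dl D a, x ∉ Subgroup.center ↥(Hd D a)
  m22 : ∀ a ∈ D, Cfsg.IsOfTypeM22 (Sd D a) (Dq D a)
  prim : ∀ a ∈ D, Cfsg.IsPrimitiveUnderConj (Dq D a)
  cent : ∀ a ∈ D, Subgroup.centralizer ({a} : Set G) = Hd D a

/-- The image of a neighbour in the local quotient. -/
def im {a x : G} (hx : x ∈ nb D a) : Sd D a := QuotientGroup.mk ⟨x, mem_Hd hx⟩

theorem im_mem {a x : G} (hx : x ∈ nb D a) : im hx ∈ Dq D a := ⟨⟨x, mem_Hd hx⟩, hx, rfl⟩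

theorem exists_pre {a : G} {X : Sd D a} (hX : X ∈ Dq D a) :
    ∃ (x : G) (hx : x ∈ nb D a), im hx = X := by
  obtain ⟨y, hy, rfl⟩ := hX
  exact ⟨y, hy, rfl⟩

variable [Finite G] (hD : Cfsg.IsThreeTranspositionGroup D) (B : Base D)
include hD B

theorem grp {a : G} (ha : a ∈ D) : Cfsg.IsThreeTranspositionGroup (Dq D a) :=
  Factor.grp_Dq hD (B.nondeg a ha)

theorem im_inj {a x y : G} (ha : a ∈ D) (hx : x ∈ nb D a) (hy : y ∈ nb D a)
    (h : im hx = im hy) : x = y :=
  congrArg Subtype.val (B.sep a ha ⟨x, mem_Hd hx⟩ hx ⟨y, mem_Hd hy⟩ hy h)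

theorem commute_im {a x y : G} (ha : a ∈ D) (hx : x ∈ nb D a) (hy : y ∈ nb D a) :
    Commute (im hx) (im hy) ↔ Commute x y := by
  constructor
  · intro h
    by_contra hc
    have h3 : (x * y) ^ 3 = 1 := by
      rcases hD.1.2 x hx.1 y hy.1 with h2 | h3
      · refine absurd ?_ hc
        show x * y = y * x
        rw [← inv_eq_of_mul_eq_one_right (show x * y * (x * y) = 1 by rw [← pow_two, h2]),
          mul_inv_rev, Classes.inv hD hx.1, Classes.inv hD hy.1]
      · exact h3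
    have i2 : (im hx * im hy) ^ 2 = 1 := by
      rw [h.mul_pow, pow_two, pow_two, Classes.sq (grp hD B ha) (im_mem hx),
        Classes.sq (grp hD B ha) (im_mem hy), one_mul]
    have i3 : (im hx * im hy) ^ 3 = 1 := by
      rw [im, im, ← QuotientGroup.mk_mul, ← QuotientGroup.mk_pow,
        show (⟨x, mem_Hd hx⟩ * ⟨y, mem_Hd hy⟩ : ↥(Hd D a)) ^ 3 = 1 from Subtype.ext (by simpa using h3)]
      rfl
    rw [pow_succ, i2, one_mul] at i3
    have e : im hx = im hy := by
      rw [← inv_eq_of_mul_eq_one_right i3, Classes.inv (grp hD B ha) (im_mem hx)]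
    exact hc ((im_inj hD B ha hx hy e) ▸ Commute.refl x)
  · intro h
    exact (show Commute (⟨x, mem_Hd hx⟩ : ↥(Hd D a)) ⟨y, mem_Hd hy⟩ from Subtype.ext h.eq).map
      (QuotientGroup.mk' _)

theorem im_nb {a x y : G} (ha : a ∈ D) (hx : x ∈ nb D a) (hy : y ∈ nb D a) :
    im hy ∈ nb (Dq D a) (im hx) ↔ y ∈ nb D x := by
  constructor
  · exact fun h => ⟨hy.1, fun e => h.2.1 (by subst e; rfl), (commute_im hD B ha hx hy).1 h.2.2⟩
  · exact fun h => ⟨im_mem hy, fun e => h.2.1 (im_inj hD B ha hy hx e),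
      (commute_im hD B ha hx hy).2 h.2.2⟩

theorem image_inter {a b : G} (ha : a ∈ D) (hb : b ∈ nb D a) :
    (nb D a ∩ nb D b).ncard = 693 := by
  classical
  let f : G → Sd D a := fun q => if h : q ∈ nb D a then im h else 1
  have hf : ∀ q (h : q ∈ nb D a), f q = im h := fun q h => dif_pos h
  have himg : f '' (nb D a ∩ nb D b) = nb (Dq D a) (im hb) := by
    ext X
    constructor
    · rintro ⟨q, ⟨hq, hqb⟩, rfl⟩
      rw [hf q hq]; exact (im_nb hD B ha hb hq).2 hqb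
    · intro hX
      obtain ⟨q, hq, rfl⟩ := exists_pre hX.1
      exact ⟨q, ⟨hq, (im_nb hD B ha hb hq).1 hX⟩, hf q hq⟩
  rw [← M22.ncard_nb (grp hD B ha) (B.prim a ha) (B.m22 a ha) (im_mem hb), ← himg]
  refine (Set.ncard_image_of_injOn fun p hp q hq e => ?_).symm
  rw [hf p hp.1, hf q hq.1] at e
  exact im_inj hD B ha hp.1 hq.1 e

variable (hprim : Cfsg.IsPrimitiveUnderConj D) (hZ : Subgroup.center G = ⊥)
include hprim hZ

theorem nb_nonempty {a : G} (ha : a ∈ D) : ∃ b, b ∈ nb D a := by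
  obtain ⟨X, hX, -⟩ := (B.prim a ha).2.1
  obtain ⟨x, hx, -⟩ := exists_pre hX
  exact ⟨x, hx⟩

theorem exists_commuting : ∃ a ∈ D, ∃ b ∈ D, a ≠ b ∧ Commute a b := by
  obtain ⟨a, ha, -⟩ := hprim.2.1
  obtain ⟨b, hb⟩ := nb_nonempty hD B hprim hZ ha
  exact ⟨a, ha, b, hb.1, hb.2.1.symm, hb.2.2⟩

/-- Every involution centralises a member. -/
theorem exists_fixed {t : G} (ht : t * t = 1) : ∃ e ∈ D, Commute t e := by
  classical
  obtain ⟨a, ha, -⟩ := hprim.2.1
  obtain ⟨b, hbdef⟩ : ∃ b, b = t * a * t⁻¹ := ⟨_, rfl⟩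
  by_contra! hcon
  have htt : ∀ x, t * (t * x * t⁻¹) * t⁻¹ = x := fun x => by
    rw [show t * (t * x * t⁻¹) * t⁻¹ = (t * t) * x * (t * t)⁻¹ by group, ht]; group
  have hbD : b ∈ D := hbdef ▸ hD.2.1 t a ha
  have hne : b ≠ a := fun e => hcon a ha (M22.conj_eq_self_iff.1 (hbdef ▸ e))
  have htb : t * b * t⁻¹ = a := by rw [hbdef, htt]
  have hta : t * a * t⁻¹ = b := hbdef.symm
  by_cases hab : Commute a b
  swap
  · refine hcon _ (Classes.conj_mem hD ha hbD) (M22.conj_eq_self_iff.1 ?_)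
    rw [show t * (a * b * a) * t⁻¹ = t * a * t⁻¹ * (t * b * t⁻¹) * (t * a * t⁻¹) by group,
      hta, htb, Basic.braid hD.1 ha hbD hab]
  have hb : b ∈ nb D a := ⟨hbD, hne, hab⟩
  set T : Finset G := (Set.toFinite (nb D a ∩ nb D b)).toFinset with hT
  have hmT : ∀ q, q ∈ T ↔ q ∈ nb D a ∩ nb D b := fun q => by simp [hT]
  have h := Finset.sum_involution (s := T) (f := fun _ => (1 : ZMod 2))
    (fun q _ => t * q * t⁻¹) (fun _ _ => by decide)
    (fun q hq _ e => hcon q ((hmT q).1 hq).1.1 (M22.conj_eq_self_iff.1 e))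
    (fun q hq => (hmT _).2 ⟨htb ▸ Cover.conj_nb hD t ((hmT q).1 hq).2,
      hta ▸ Cover.conj_nb hD t ((hmT q).1 hq).1⟩)
    (fun q _ => htt q)
  rw [Finset.sum_const, nsmul_one,
    show T.card = 693 by rw [hT, ← Set.ncard_eq_toFinset_card, image_inter hD B ha hb]] at h
  exact absurd h (by decide)

theorem mem_Hd_self {a : G} (ha : a ∈ D) : a ∈ Hd D a := by
  rw [← B.cent a ha, Subgroup.mem_centralizer_iff]
  intro x hx
  rw [Set.mem_singleton_iff.1 hx]

theorem loc_eq {a : G} (ha : a ∈ D) : loc D a = Hd D a := by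
  refine le_antisymm ((Subgroup.closure_le _).2 fun y hy => ?_)
    (Subgroup.closure_mono fun y hy => ⟨hy.1, hy.2.2⟩)
  by_cases e : y = a
  · rw [e]; exact mem_Hd_self hD B hprim hZ ha
  · exact mem_Hd ⟨hy.1, e, hy.2⟩

theorem mem_Hd_of_commute {a t : G} (ha : a ∈ D) (h : Commute t a) : t ∈ Hd D a := by
  rw [← B.cent a ha, Subgroup.mem_centralizer_iff]
  intro x hx
  rw [Set.mem_singleton_iff.1 hx]
  exact h.eq.symm

/-- A central element of the local group is trivial or the member. -/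
theorem centralizes_loc {a z : G} (ha : a ∈ D) (hz : ∀ h ∈ Hd D a, Commute z h) :
    z = 1 ∨ z = a := by
  have hw := exists_commuting hD B hprim hZ
  have hza : Commute z a := hz a (mem_Hd_self hD B hprim hZ ha)
  obtain ⟨x, hx⟩ := nb_nonempty hD B hprim hZ ha
  have hax : a ∈ nb D x := Cover.mem_nb_symm ha hx
  have hzx : Commute z x := hz x (mem_Hd hx)
  have hzH : z ∈ Hd D x := mem_Hd_of_commute hD B hprim hZ hx.1 hzx
  set Z : Sd D x := QuotientGroup.mk ⟨z, hzH⟩ with hZd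
  have hZc : Z = 1 ∨ Z = im hax := by
    refine M22.centralizes_loc (grp hD B hx.1) (B.prim x hx.1) (B.m22 x hx.1) (im_mem hax) ?_
    intro h hh
    induction hh using Subgroup.closure_induction with
    | one => exact Commute.one_right _
    | mul p q _ _ hp hq => exact hp.mul_right hq
    | inv p _ hp => exact hp.inv_right
    | mem Y hY =>
      obtain ⟨y, hy, rfl⟩ := exists_pre hY.1
      have hay : Commute a y := (commute_im hD B hx.1 hax hy).1 hY.2
      by_cases e : y = a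
      · subst e
        exact (show Commute (⟨z, hzH⟩ : ↥(Hd D x)) ⟨y, mem_Hd hy⟩ from Subtype.ext hza.eq).map
          (QuotientGroup.mk' _)
      · exact (show Commute (⟨z, hzH⟩ : ↥(Hd D x)) ⟨y, mem_Hd hy⟩ from
          Subtype.ext (hz y (mem_Hd ⟨hy.1, e, hay⟩)).eq).map (QuotientGroup.mk' _)
  have main : ∀ u : ↥(Hd D x), u ∈ Subgroup.center ↥(Hd D x) →
      (∀ h ∈ Hd D a, Commute (u : G) h) → (u : G) = 1 := by
    intro u hu hua
    obtain ⟨c, hc, hcx, hac⟩ : ∃ c, c ∈ nb D x ∧ c ≠ x ∧ ¬ Commute a c := by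
      obtain ⟨Y, hY, hYc⟩ := Classes.exists_noncomm (grp hD B hx.1) (B.prim x hx.1).1
        (B.prim x hx.1).2.1 (im_mem hax)
      obtain ⟨y, hy, rfl⟩ := exists_pre hY
      exact ⟨y, hy, hy.2.1, fun h => hYc ((commute_im hD B hx.1 hax hy).2 h)⟩
    rw [← Subgroup.mem_bot, ← (show Subgroup.center G = ⊥ from ?_), Subgroup.mem_center_iff]
    · intro g
      have hle : Subgroup.closure ({y : G | y ∈ D ∧ Commute a y} ∪ {c}) ≤
          Subgroup.centralizer ({(u : G)} : Set G) := by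
        rw [Subgroup.closure_le]
        rintro y hy
        rw [SetLike.mem_coe, Subgroup.mem_centralizer_iff]
        intro v hv
        rw [Set.mem_singleton_iff.1 hv]
        rcases hy with hy | rfl
        · exact (hua y (mem_Hd_of_commute hD B hprim hZ ha hy.2.symm)).eq
        · exact (congrArg Subtype.val (Subgroup.mem_center_iff.1 hu ⟨y, mem_Hd hc⟩)).symm
      rw [RankThree.closure_eq_top hD hprim hw ha hc.1 hac] at hle
      exact (Subgroup.mem_centralizer_iff.1 (hle (Subgroup.mem_top g)) _ rfl).symm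
    · exact hZ
  rcases hZc with h | h
  · exact Or.inl (main ⟨z, hzH⟩ ((QuotientGroup.eq_one_iff _).1 h) hz)
  · right
    have e : (⟨a, mem_Hd hax⟩ : ↥(Hd D x))⁻¹ * ⟨z, hzH⟩ ∈ Subgroup.center ↥(Hd D x) :=
      QuotientGroup.eq.1 h.symm
    have := main _ e fun g hg => by
      simp only [Subgroup.coe_mul, InvMemClass.coe_inv]
      exact (Hd_commute hg).inv_left.mul_left (hz g hg)
    simp only [Subgroup.coe_mul, InvMemClass.coe_inv] at this
    exact (inv_mul_eq_one.1 this).symm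

theorem pair_trans {a b x y : G} (ha : a ∈ D) (hb : b ∈ nb D a) (hx : x ∈ D) (hy : y ∈ nb D x) :
    ∃ g : G, g * a * g⁻¹ = x ∧ g * b * g⁻¹ = y := by
  obtain ⟨g, hg⟩ := hprim.1 a ha x hx
  have hgb : g * b * g⁻¹ ∈ nb D x := hg ▸ Cover.conj_nb hD g hb
  obtain ⟨K, hK⟩ := (B.prim x hx).1 _ (im_mem hgb) _ (im_mem hy)
  obtain ⟨⟨k, hk⟩, rfl⟩ := QuotientGroup.mk_surjective K
  have hka : Commute k x := (Hd_commute hk).symm
  have hkb : k * (g * b * g⁻¹) * k⁻¹ ∈ nb D x := by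
    have := Cover.conj_nb hD k hgb
    rwa [M22.conj_eq_self_iff.2 hka] at this
  refine ⟨k * g, ?_, ?_⟩
  · calc k * g * a * (k * g)⁻¹ = k * (g * a * g⁻¹) * k⁻¹ := by group
      _ = x := by rw [hg, M22.conj_eq_self_iff.2 hka]
  · calc k * g * b * (k * g)⁻¹ = k * (g * b * g⁻¹) * k⁻¹ := by group
      _ = y := im_inj hD B hx hkb hy hK

theorem triple_trans {a b c x y z : G} (ha : a ∈ D) (hb : b ∈ nb D a)
    (hc : c ∈ nb D a ∩ nb D b) (hx : x ∈ D) (hy : y ∈ nb D x) (hz : z ∈ nb D x ∩ nb D y) :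
    ∃ g : G, g * a * g⁻¹ = x ∧ g * b * g⁻¹ = y ∧ g * c * g⁻¹ = z := by
  obtain ⟨g, hga, hgb⟩ := pair_trans hD B hprim hZ ha hb hx hy
  have hgc : g * c * g⁻¹ ∈ nb D x ∩ nb D y :=
    ⟨hga ▸ Cover.conj_nb hD g hc.1, hgb ▸ Cover.conj_nb hD g hc.2⟩
  obtain ⟨K, hKy, hKz⟩ := M22.pair_trans (grp hD B hx) (B.prim x hx) (B.m22 x hx) (im_mem hy)
    ((im_nb hD B hx hy hgc.1).2 hgc.2) (im_mem hy) ((im_nb hD B hx hy hz.1).2 hz.2)
  obtain ⟨⟨k, hk⟩, rfl⟩ := QuotientGroup.mk_surjective K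
  have hkx : Commute k x := (Hd_commute hk).symm
  have hconj : ∀ {q : G}, q ∈ nb D x → k * q * k⁻¹ ∈ nb D x := fun {q} hq => by
    have := Cover.conj_nb hD k hq
    rwa [M22.conj_eq_self_iff.2 hkx] at this
  refine ⟨k * g, ?_, ?_, ?_⟩
  · calc k * g * a * (k * g)⁻¹ = k * (g * a * g⁻¹) * k⁻¹ := by group
      _ = x := by rw [hga, M22.conj_eq_self_iff.2 hkx]
  · calc k * g * b * (k * g)⁻¹ = k * (g * b * g⁻¹) * k⁻¹ := by group
      _ = y := by rw [hgb]; exact im_inj hD B hx (hconj hy) hy hKy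
  · calc k * g * c * (k * g)⁻¹ = k * (g * c * g⁻¹) * k⁻¹ := by group
      _ = z := im_inj hD B hx (hconj hgc.1) hz.1 hKz

theorem exists_isProd {m : ℕ} (h1 : 1 ≤ m) (h3 : m ≤ 3) : ∃ x, IsProd D m x := by
  obtain ⟨a, ha, -⟩ := hprim.2.1
  obtain ⟨b, hb⟩ := nb_nonempty hD B hprim hZ ha
  obtain ⟨c, hca, hcb⟩ := Set.nonempty_of_ncard_ne_zero
    ((image_inter hD B ha hb).trans_ne (by norm_num : (693 : ℕ) ≠ 0))
  interval_cases m
  · exact ⟨a, [a], by simp, rfl, by simp [ha], by simp, by simp⟩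
  · exact ⟨a * b, [a, b], by simp [hb.2.1.symm], rfl, by simp [ha, hb.1],
      by simp [hb.2.2, hb.2.2.symm], by simp⟩
  · exact ⟨a * b * c, [a, b, c], by simp [hb.2.1.symm, hca.2.1.symm, hcb.2.1.symm], rfl,
      by simp [ha, hb.1, hca.1],
      by simp [hb.2.2, hb.2.2.symm, hca.2.2, hca.2.2.symm, hcb.2.2, hcb.2.2.symm],
      by simp [mul_assoc]⟩

theorem prod_conj {m : ℕ} {x y : G} (h1 : 1 ≤ m) (h3 : m ≤ 3) (hx : IsProd D m x)
    (hy : IsProd D m y) : IsConj x y := by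
  obtain ⟨l, hn, hl, hm, hc, rfl⟩ := hx
  obtain ⟨l', hn', hl', hm', hc', rfl⟩ := hy
  rw [isConj_iff]
  interval_cases m
  · obtain ⟨a, rfl⟩ := List.length_eq_one_iff.1 hl
    obtain ⟨b, rfl⟩ := List.length_eq_one_iff.1 hl'
    obtain ⟨g, hg⟩ := hprim.1 a (hm a (by simp)) b (hm' b (by simp))
    exact ⟨g, by simpa using hg⟩
  · obtain ⟨a, b, rfl⟩ := List.length_eq_two.1 hl
    obtain ⟨x, y, rfl⟩ := List.length_eq_two.1 hl'
    simp only [List.nodup_cons, List.mem_cons, List.not_mem_nil, or_false, List.nodup_nil,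
      and_true, not_false_eq_true] at hn hn'
    obtain ⟨g, h1, h2⟩ := pair_trans hD B hprim hZ (hm a (by simp))
      (b := b) ⟨hm b (by simp), Ne.symm hn, hc a (by simp) b (by simp)⟩ (hm' x (by simp))
      (y := y) ⟨hm' y (by simp), Ne.symm hn', hc' x (by simp) y (by simp)⟩
    refine ⟨g, ?_⟩
    simp only [List.prod_cons, List.prod_nil, mul_one]
    rw [← h1, ← h2]; group
  · obtain ⟨a, b, c, rfl⟩ := List.length_eq_three.1 hl
    obtain ⟨x, y, z, rfl⟩ := List.length_eq_three.1 hl'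
    simp only [List.nodup_cons, List.mem_cons, List.not_mem_nil, or_false, not_or,
      List.nodup_nil, and_true, not_false_eq_true] at hn hn'
    obtain ⟨g, e1, e2, e3⟩ := triple_trans hD B hprim hZ (hm a (by simp))
      (b := b) ⟨hm b (by simp), Ne.symm hn.1.1, hc a (by simp) b (by simp)⟩
      (c := c) ⟨⟨hm c (by simp), Ne.symm hn.1.2, hc a (by simp) c (by simp)⟩,
        ⟨hm c (by simp), Ne.symm hn.2, hc b (by simp) c (by simp)⟩⟩
      (hm' x (by simp))
      (y := y) ⟨hm' y (by simp), Ne.symm hn'.1.1, hc' x (by simp) y (by simp)⟩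
      (z := z) ⟨⟨hm' z (by simp), Ne.symm hn'.1.2, hc' x (by simp) z (by simp)⟩,
        ⟨hm' z (by simp), Ne.symm hn'.2, hc' y (by simp) z (by simp)⟩⟩
    refine ⟨g, ?_⟩
    simp only [List.prod_cons, List.prod_nil, mul_one]
    rw [← e1, ← e2, ← e3]; group

omit B hprim hZ in
theorem one_ne_two (h6 : Rel 6 D) {a p q : G} (ha : a ∈ D) (hp : p ∈ D) (hq : q ∈ D)
    (hne : p ≠ q) (hpq : Commute p q) : a ≠ p * q := by
  intro e
  obtain ⟨cp, cq⟩ := Factor.commute_each_two hD hp hq ha hne (by rw [← e])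
  by_cases h1 : a = p
  · exact Basic.ne_one hD.1 hq (mul_eq_left.1 (e.symm.trans h1))
  by_cases h2 : a = q
  · exact Basic.ne_one hD.1 hp (mul_eq_right.1 (e.symm.trans h2))
  refine h6 [a, p, q] (by simp [h1, h2, hne]) (by simp) (by simp) (by simp [ha, hp, hq])
    (by simp [cp, cp.symm, cq, cq.symm, hpq, hpq.symm]) ?_
  simp [← e, Classes.sq hD ha]

omit B hprim hZ in
theorem one_ne_three (h6 : Rel 6 D) {a p q r : G} (ha : a ∈ D) (hp : p ∈ D) (hq : q ∈ D)
    (hr : r ∈ D) (npq : p ≠ q) (npr : p ≠ r) (nqr : q ≠ r) (cpq : Commute p q)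
    (cpr : Commute p r) (cqr : Commute q r) : a ≠ p * q * r := by
  intro e
  obtain ⟨c1, c2, c3⟩ := Factor.commute_each_three hD hp hq hr ha npq npr nqr cpq cpr cqr
    (by rw [← e])
  by_cases h1 : a = p
  · refine h6 [q, r] (by simp [nqr]) (by simp) (by simp) (by simp [hq, hr])
      (by simp [cqr, cqr.symm]) ?_
    rw [mul_assoc] at e
    simpa using mul_eq_left.1 (e.symm.trans h1)
  by_cases h2 : a = q
  · refine h6 [p, r] (by simp [npr]) (by simp) (by simp) (by simp [hp, hr])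
      (by simp [cpr, cpr.symm]) ?_
    rw [cpq.eq, mul_assoc] at e
    simpa using mul_eq_left.1 (e.symm.trans h2)
  by_cases h3 : a = r
  · refine h6 [p, q] (by simp [npq]) (by simp) (by simp) (by simp [hp, hq])
      (by simp [cpq, cpq.symm]) ?_
    simpa using mul_eq_right.1 (e.symm.trans h3)
  refine h6 [a, p, q, r] (by simp [h1, h2, h3, npq, npr, nqr]) (by simp) (by simp)
    (by simp [ha, hp, hq, hr])
    (by simp [c1, c1.symm, c2, c2.symm, c3, c3.symm, cpq, cpq.symm, cpr, cpr.symm, cqr, cqr.symm])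
    ?_
  simp [← mul_assoc, mul_assoc a, ← e, Classes.sq hD ha]

omit B hprim hZ in
theorem two_ne_three (h6 : Rel 6 D) {x y p q r : G} (hx : x ∈ D) (hy : y ∈ D) (hp : p ∈ D)
    (hq : q ∈ D) (hr : r ∈ D) (nxy : x ≠ y) (cxy : Commute x y) (npq : p ≠ q) (npr : p ≠ r)
    (nqr : q ≠ r) (cpq : Commute p q)
    (cpr : Commute p r) (cqr : Commute q r) : x * y ≠ p * q * r := by
  intro e
  have key : ∀ u ∈ D, ∀ v ∈ D, u ≠ v → Commute u v → u * v = p * q * r →
      u ≠ p ∧ u ≠ q ∧ u ≠ r ∧ Commute u p ∧ Commute u q ∧ Commute u r := by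
    intro u hu v hv _ cuv he
    obtain ⟨c1, c2, c3⟩ := Factor.commute_each_three hD hp hq hr hu npq npr nqr cpq cpr cqr
      (by rw [← he]; exact (Commute.refl u).mul_right cuv)
    refine ⟨?_, ?_, ?_, c1, c2, c3⟩ <;> intro h
    · rw [h, mul_assoc] at he
      exact one_ne_two hD h6 hv hq hr nqr cqr (mul_left_cancel he)
    · rw [h, cpq.eq, mul_assoc] at he
      exact one_ne_two hD h6 hv hp hr npr cpr (mul_left_cancel he)
    · rw [h, ((cpr.mul_left cqr).eq)] at he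
      exact one_ne_two hD h6 hv hp hq npq cpq (mul_left_cancel he)
  obtain ⟨a1, a2, a3, d1, d2, d3⟩ := key x hx y hy nxy cxy e
  obtain ⟨b1, b2, b3, f1, f2, f3⟩ := key y hy x hx nxy.symm cxy.symm (cxy.eq ▸ e)
  refine h6 [x, y, p, q, r] (by simp [nxy, a1, a2, a3, b1, b2, b3, npq, npr, nqr]) (by simp)
    (by simp) (by simp [hx, hy, hp, hq, hr])
    (by simp [cxy, cxy.symm, d1, d1.symm, d2, d2.symm, d3, d3.symm, f1, f1.symm, f2, f2.symm, f3,
      f3.symm, cpq, cpq.symm, cpr, cpr.symm, cqr, cqr.symm]) ?_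
  have hsq : (x * y) * (x * y) = 1 := by
    rw [← pow_two, cxy.mul_pow, pow_two, pow_two, Classes.sq hD hx, Classes.sq hD hy, one_mul]
  calc [x, y, p, q, r].prod = (x * y) * (p * q * r) := by simp [mul_assoc]
    _ = 1 := by rw [← e, hsq]

omit B hprim hZ in
theorem prod_number (h6 : Rel 6 D) {m m' : ℕ} {x : G} (h1 : 1 ≤ m) (h3 : m ≤ 3) (h1' : 1 ≤ m')
    (h3' : m' ≤ 3) (h : IsProd D m x) (h' : IsProd D m' x) : m = m' := by
  wlog hle : m ≤ m' generalizing m m'
  · exact (this h1' h3' h1 h3 h' h (le_of_not_ge hle)).symm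
  obtain ⟨l, hn, hl, hm, hc, rfl⟩ := h
  obtain ⟨l', hn', hl', hm', hc', he⟩ := h'
  interval_cases m <;> interval_cases m' <;> try rfl
  · obtain ⟨a, rfl⟩ := List.length_eq_one_iff.1 hl
    obtain ⟨p, q, rfl⟩ := List.length_eq_two.1 hl'
    exact absurd (by simpa using he.symm) (one_ne_two hD h6 (hm a (by simp)) (hm' p (by simp))
      (hm' q (by simp)) (by simpa using hn') (hc' p (by simp) q (by simp)))
  · obtain ⟨a, rfl⟩ := List.length_eq_one_iff.1 hl
    obtain ⟨p, q, r, rfl⟩ := List.length_eq_three.1 hl'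
    simp only [List.nodup_cons, List.mem_cons, List.not_mem_nil, or_false, not_or,
      List.nodup_nil, and_true, not_false_eq_true] at hn'
    exact absurd (by simpa [mul_assoc] using he.symm) (one_ne_three hD h6 (hm a (by simp))
      (hm' p (by simp)) (hm' q (by simp)) (hm' r (by simp)) hn'.1.1 hn'.1.2 hn'.2
      (hc' p (by simp) q (by simp)) (hc' p (by simp) r (by simp)) (hc' q (by simp) r (by simp)))
  · obtain ⟨a, b, rfl⟩ := List.length_eq_two.1 hl
    obtain ⟨p, q, r, rfl⟩ := List.length_eq_three.1 hl'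
    simp only [List.nodup_cons, List.mem_cons, List.not_mem_nil, or_false, not_or,
      List.nodup_nil, and_true, not_false_eq_true] at hn hn'
    exact absurd (by simpa [mul_assoc] using he.symm) (two_ne_three hD h6 (hm a (by simp))
      (hm b (by simp)) (hm' p (by simp)) (hm' q (by simp)) (hm' r (by simp)) hn
      (hc a (by simp) b (by simp)) hn'.1.1 hn'.1.2 hn'.2
      (hc' p (by simp) q (by simp)) (hc' p (by simp) r (by simp)) (hc' q (by simp) r (by simp)))

omit B hprim hZ in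
theorem orderOf_prod (h6 : Rel 6 D) {m : ℕ} {x : G} (h1 : 1 ≤ m) (h3 : m ≤ 3)
    (h : IsProd D m x) : orderOf x = 2 := by
  refine orderOf_eq_prime (by rw [pow_two]; exact h.sq hD) fun e => ?_
  obtain ⟨l, hn, hl, hm, hc, rfl⟩ := h
  exact h6 l hn (by omega) (by omega) hm hc e

/-- Every involution is a product of at most three commuting members. -/
theorem exists_prod (h6 : Rel 6 D) {t : G} (ht : orderOf t = 2) :
    ∃ m, 1 ≤ m ∧ m ≤ 3 ∧ IsProd D m t := by
  have ht2 := Basic.mul_self_of_orderOf_two ht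
  obtain ⟨a, ha, hta⟩ := exists_fixed hD B hprim hZ ht2
  have htH := mem_Hd_of_commute hD B hprim hZ ha hta
  have hker : ∀ z : ↥(Hd D a), (QuotientGroup.mk z : Sd D a) = 1 → (z : G) = 1 ∨ (z : G) = a :=
    fun z hz => centralizes_loc hD B hprim hZ ha fun h hh => (congrArg Subtype.val
      (Subgroup.mem_center_iff.1 ((QuotientGroup.eq_one_iff z).1 hz) ⟨h, hh⟩)).symm
  by_cases hτ : (QuotientGroup.mk ⟨t, htH⟩ : Sd D a) = 1
  · rcases hker _ hτ with h | h
    · exfalso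
      rw [show t = 1 from h, orderOf_one] at ht
      exact absurd ht (by norm_num)
    · exact ⟨1, le_rfl, by norm_num, [a], by simp, rfl, by simp [ha], by simp,
        by simpa using (show t = a from h).symm⟩
  have hτ2 : orderOf (QuotientGroup.mk ⟨t, htH⟩ : Sd D a) = 2 := by
    refine orderOf_eq_prime ?_ hτ
    rw [← QuotientGroup.mk_pow, pow_two,
      show (⟨t, htH⟩ : ↥(Hd D a)) * ⟨t, htH⟩ = 1 from Subtype.ext ht2]
    rfl
  obtain ⟨m, h1, h3, l, hn, hl, hm, hc, hp⟩ :=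
    M22.exists_prod (grp hD B ha) (B.prim a ha) (B.m22 a ha) hτ2
  have fin : ∀ P : ↥(Hd D a), (QuotientGroup.mk P : Sd D a) = QuotientGroup.mk ⟨t, htH⟩ →
      t = P ∨ t = (P : G) * a := by
    intro P hP
    rcases hker (P⁻¹ * ⟨t, htH⟩) (by rw [QuotientGroup.mk_mul, QuotientGroup.mk_inv, hP,
      inv_mul_cancel]) with h | h
    · exact Or.inl (inv_mul_eq_one.1 h).symm
    · exact Or.inr (inv_mul_eq_iff_eq_mul.1 h)
  interval_cases m
  · obtain ⟨X, rfl⟩ := List.length_eq_one_iff.1 hl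
    obtain ⟨x, hx, rfl⟩ := exists_pre (hm X (by simp))
    rcases fin ⟨x, mem_Hd hx⟩ (by simpa [im] using hp) with h | h
    · exact ⟨1, le_rfl, by norm_num, [x], by simp, rfl, by simp [hx.1], by simp, by simpa using h.symm⟩
    · exact ⟨2, by norm_num, by norm_num, [x, a], by simp [hx.2.1], rfl, by simp [hx.1, ha],
        by simp [hx.2.2, hx.2.2.symm], by simpa using h.symm⟩
  · obtain ⟨X, Y, rfl⟩ := List.length_eq_two.1 hl
    obtain ⟨x, hx, rfl⟩ := exists_pre (hm X (by simp))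
    obtain ⟨y, hy, rfl⟩ := exists_pre (hm Y (by simp))
    have nxy : x ≠ y := by rintro rfl; simp at hn
    have cxy := (commute_im hD B ha hx hy).1 (hc _ (by simp) _ (by simp))
    rcases fin ⟨x * y, mul_mem (mem_Hd hx) (mem_Hd hy)⟩ (by
      rw [← hp]; simp [im, ← QuotientGroup.mk_mul]) with h | h
    · exact ⟨2, by norm_num, by norm_num, [x, y], by simp [nxy], rfl, by simp [hx.1, hy.1],
        by simp [cxy, cxy.symm], by simpa using h.symm⟩
    · exact ⟨3, by norm_num, by norm_num, [x, y, a], by simp [nxy, hx.2.1, hy.2.1], rfl,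
        by simp [hx.1, hy.1, ha],
        by simp [cxy, cxy.symm, hx.2.2, hx.2.2.symm, hy.2.2, hy.2.2.symm],
        by simpa [mul_assoc] using h.symm⟩
  · obtain ⟨X, Y, W, rfl⟩ := List.length_eq_three.1 hl
    obtain ⟨x, hx, rfl⟩ := exists_pre (hm X (by simp))
    obtain ⟨y, hy, rfl⟩ := exists_pre (hm Y (by simp))
    obtain ⟨e, he, rfl⟩ := exists_pre (hm W (by simp))
    simp only [List.nodup_cons, List.mem_cons, List.not_mem_nil, or_false, not_or,
      List.nodup_nil, and_true, not_false_eq_true] at hn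
    obtain ⟨⟨nxy, nxe⟩, nye⟩ := hn
    have cxy := hc (im hx) (by simp) (im hy) (by simp)
    have cxe := hc (im hx) (by simp) (im he) (by simp)
    have cye := hc (im hy) (by simp) (im he) (by simp)
    obtain ⟨U, V, R, hU, hV, hR, hnd, ⟨cuv, cur, cvr⟩, -, hsix⟩ :=
      Factor.exists_other (grp hD B ha) (B.prim a ha) (B.m22 a ha) (im_mem hx) (im_mem hy)
        (im_mem he) nxy nxe nye cxy cxe cye
    obtain ⟨u, hu, rfl⟩ := exists_pre hU.1
    obtain ⟨v, hv, rfl⟩ := exists_pre hV.1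
    obtain ⟨r, hr, rfl⟩ := exists_pre hR.1
    have C : ∀ {p q : G} {hp : p ∈ nb D a} {hq : q ∈ nb D a}, Commute (im hp) (im hq) →
        Commute p q := fun {p q hp hq} h => (commute_im hD B ha hp hq).1 h
    have hu3 := hU.2.2.1
    have hv3 := hV.2.2.1
    have hr3 := hR.2.2.1
    have hPm : (⟨x * y * e, mul_mem (mul_mem (mem_Hd hx) (mem_Hd hy)) (mem_Hd he)⟩ : ↥(Hd D a)) =
        ⟨x, mem_Hd hx⟩ * ⟨y, mem_Hd hy⟩ * ⟨e, mem_Hd he⟩ := rfl
    have hnd' : [x, y, e, u, v, r].Nodup := by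
      simp only [List.nodup_cons, List.mem_cons, List.not_mem_nil, or_false, not_or,
        List.nodup_nil, and_true, not_false_eq_true] at hnd ⊢
      refine ⟨⟨?_, ?_, ?_, ?_, ?_⟩, ⟨?_, ?_, ?_, ?_⟩, ⟨?_, ?_, ?_⟩, ⟨?_, ?_⟩, ?_⟩ <;>
        (rintro rfl; simp at hnd)
    have hcc : ∀ p ∈ [x, y, e, u, v, r], ∀ q ∈ [x, y, e, u, v, r], Commute p q := by
      simp [C cxy, (C cxy).symm, C cxe, (C cxe).symm, C cye, (C cye).symm, C hu3.1,
        (C hu3.1).symm, C hu3.2.1, (C hu3.2.1).symm, C hu3.2.2, (C hu3.2.2).symm, C hv3.1,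
        (C hv3.1).symm, C hv3.2.1, (C hv3.2.1).symm, C hv3.2.2, (C hv3.2.2).symm, C hr3.1,
        (C hr3.1).symm, C hr3.2.1, (C hr3.2.1).symm, C hr3.2.2, (C hr3.2.2).symm, C cuv,
        (C cuv).symm, C cur, (C cur).symm, C cvr, (C cvr).symm]
    have hsq : (x * y * e) * (x * y * e) = 1 := by
      rw [← pow_two, ((C cxe).mul_left (C cye)).mul_pow, (C cxy).mul_pow, pow_two, pow_two, pow_two,
        Classes.sq hD hx.1, Classes.sq hD hy.1, Classes.sq hD he.1, one_mul, one_mul]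
    have hrel : u * v * r = x * y * e * a := by
      rcases hker (⟨x * y * e, mul_mem (mul_mem (mem_Hd hx) (mem_Hd hy)) (mem_Hd he)⟩⁻¹ *
          (⟨u, mem_Hd hu⟩ * ⟨v, mem_Hd hv⟩ * ⟨r, mem_Hd hr⟩)) (by
        rw [hPm]; simp only [QuotientGroup.mk_mul, QuotientGroup.mk_inv]
        exact inv_mul_eq_one.2 hsix) with h | h
      · exfalso
        refine h6 [x, y, e, u, v, r] hnd' (by simp) (by simp)
          (by simp [hx.1, hy.1, he.1, hu.1, hv.1, hr.1]) hcc ?_
        have h' : x * y * e = u * v * r := inv_mul_eq_one.1 (by simpa using h)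
        calc [x, y, e, u, v, r].prod = (x * y * e) * (u * v * r) := by simp [mul_assoc]
          _ = 1 := by rw [← h', hsq]
      · exact inv_mul_eq_iff_eq_mul.1 (by simpa using h)
    rcases fin _ (show (QuotientGroup.mk (⟨x * y * e, mul_mem (mul_mem (mem_Hd hx) (mem_Hd hy))
        (mem_Hd he)⟩ : ↥(Hd D a)) : Sd D a) = QuotientGroup.mk ⟨t, htH⟩ by
      rw [← hp, hPm, QuotientGroup.mk_mul, QuotientGroup.mk_mul]; simp [im, mul_assoc]) with h | h
    · exact ⟨3, by norm_num, le_rfl, [x, y, e], hnd'.sublist (by simp), rfl,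
        by simp [hx.1, hy.1, he.1],
        fun p hp q hq => hcc p (by simp at hp ⊢; tauto) q (by simp at hq ⊢; tauto),
        by simpa [mul_assoc] using h.symm⟩
    · exact ⟨3, by norm_num, le_rfl, [u, v, r], hnd'.sublist (List.sublist_append_right [x, y, e] [u, v, r]), rfl,
        by simp [hu.1, hv.1, hr.1],
        fun p hp q hq => hcc p (by simp at hp ⊢; tauto) q (by simp at hq ⊢; tauto),
        by simpa [mul_assoc] using (h.trans hrel.symm).symm⟩

end Cfsg.Agent.ThreeTransp.M23
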