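import Cfsg.Agent.GenA.Tower.Main23
import Cfsg.Agent.Lib.ThreeTransp.M23.Involutions
import Cfsg.Agent.Lib.ThreeTransp.M22.Unique

/-!
In a group of type M(23) the given class is the only generating class of 3-transpositions.
-/

set_option autoImplicit false
set_option linter.unusedSectionVars false

namespace Cfsg.Agent.ThreeTransp.M23

open Cfsg.Agent.ThreeTransp
open Cfsg.Agent.ThreeTransp.Factor (nb Sd Dq)
open Cfsg.Agent.GenA.Tower (pr pr_mem pr_comm pr_nb image_nb_pr)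

universe u

variable {G : Type u} [Group G] [Finite G] {D : Set G}
  (hD : Cfsg.IsThreeTranspositionGroup D) (hprim : Cfsg.IsPrimitiveUnderConj D)
  (h23 : Cfsg.IsOfTypeM23 G D)
include hD hprim h23

/-- The given class is the only generating class. -/
theorem unique_class {D' : Set G} (hD' : Cfsg.IsThreeTranspositionClass D') : D' = D := by
  obtain ⟨hset, ⟨x, hx, hcls⟩, -⟩ := hD'
  have conj : ∀ g : G, g * x * g⁻¹ ∈ D' := fun g => by
    rw [hcls]; exact isConj_iff.2 ⟨g, rfl⟩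
  have B : Base D :=
    ⟨fun a ha => GenA.Tower.M23.sep hD hprim h23 ha,
      fun a ha => (GenA.Tower.core_at hD hprim h23.1 (GenA.Tower.M23.hex hD hprim h23) ha).2.1,
      fun a ha => GenA.Tower.M23.t22 hD hprim h23 ha,
      fun a ha => GenA.Tower.M23.prim hD hprim h23 ha,
      fun a ha => GenA.Tower.M23.centralizer_eq hD hprim h23 ha⟩
  obtain ⟨m, hm1, hm3, l, hnd, hlen, hlD, hlc, hprod⟩ :=
    exists_prod hD B hprim h23.1 (Factor.M23_core hD hprim.1 h23).2 (hset.1 x hx)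
  obtain ⟨w, hw, -⟩ := id hprim.2.1
  have lift : ∀ {s : Sd D w}, s ∈ Dq D w → ∃ z ∈ nb D w, pr D w z = s := fun hs => by
    rwa [← image_nb_pr] at hs
  have hs := GenA.Tower.M23.sep hD hprim h23 hw
  obtain ⟨a', c', d', f', b', ha', hc', hac', hd', hf', hb', hbc'⟩ := M22.exists_config
    (GenA.Tower.M23.grp hD hprim h23 hw) (GenA.Tower.M23.prim hD hprim h23 hw)
    (GenA.Tower.M23.t22 hD hprim h23 hw)
  obtain ⟨a, an, rfl⟩ := lift ha'
  obtain ⟨c, cn, rfl⟩ := lift hc'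
  obtain ⟨d, dn, rfl⟩ := lift hd'.1.1
  obtain ⟨f, fn, rfl⟩ := lift hf'.1.1.1
  obtain ⟨b, bn, rfl⟩ := lift hb'.1.1.1
  have hac : ¬ Commute a c := fun h => hac' ((pr_comm hD an cn).2 h)
  have hbc : ¬ Commute b c := fun h => hbc' ((pr_comm hD bn cn).2 h)
  have hd : d ∈ nb D a ∩ nb D c := ⟨(pr_nb hD hs an dn).1 hd'.1, (pr_nb hD hs cn dn).1 hd'.2⟩
  have hf : f ∈ nb D a ∩ nb D c ∩ nb D d :=
    ⟨⟨(pr_nb hD hs an fn).1 hf'.1.1, (pr_nb hD hs cn fn).1 hf'.1.2⟩,
      (pr_nb hD hs dn fn).1 hf'.2⟩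
  have hb : b ∈ nb D a ∩ nb D d ∩ nb D f :=
    ⟨⟨(pr_nb hD hs an bn).1 hb'.1.1, (pr_nb hD hs dn bn).1 hb'.1.2⟩,
      (pr_nb hD hs fn bn).1 hb'.2⟩
  have ha : a ∈ D := an.1
  have hc : c ∈ D := cn.1
  interval_cases m
  · obtain ⟨p, rfl⟩ := List.length_eq_one_iff.1 hlen
    have hp : x ∈ D := by rw [← hprod]; simpa using hlD
    rw [hcls]
    ext y
    refine ⟨fun hy => ?_, fun hy => isConj_iff.2 (hprim.1 x hp y hy)⟩
    obtain ⟨g, rfl⟩ := isConj_iff.1 hy
    exact hD.2.1 g x hp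
  · exfalso
    obtain ⟨p, q, rfl⟩ := List.length_eq_two.1 hlen
    have hx' : p * q = x := by simpa using hprod
    have hp : p ∈ D := hlD p (by simp)
    have hq : q ∈ nb D p := ⟨hlD q (by simp), fun e => by simp [e] at hnd,
      hlc p (by simp) q (by simp)⟩
    have mem : ∀ u ∈ D, ∀ v ∈ nb D u, u * v ∈ D' := fun u hu v hv => by
      obtain ⟨g, hgp, hgq⟩ := pair_trans hD B hprim h23.1 hp hq hu hv
      rw [← hgp, ← hgq, show g * p * g⁻¹ * (g * q * g⁻¹) = g * (p * q) * g⁻¹ by group, hx']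
      exact conj g
    have h := hset.2 _ (mem a ha b hb.1.1) _ (mem c hc d hd.2)
    rw [← mul_assoc] at h
    exact M22.abc_bad hD.1 ha hb.1.1.1 hc hb.1.1.2.1.symm hb.1.1.2.2 hac hbc
      (Basic.sq hD.1 hd.1.1)
      ((hd.1.2.2.mul_left hb.1.2.2.2.symm).mul_left hd.2.2.2) h
  · exfalso
    obtain ⟨p, q, r, rfl⟩ := List.length_eq_three.1 hlen
    have hx' : p * q * r = x := by simpa [mul_assoc] using hprod
    have hp : p ∈ D := hlD p (by simp)
    have hq : q ∈ nb D p := ⟨hlD q (by simp), fun e => by simp [e] at hnd,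
      hlc p (by simp) q (by simp)⟩
    have hr : r ∈ nb D p ∩ nb D q :=
      ⟨⟨hlD r (by simp), fun e => by simp [e] at hnd, hlc p (by simp) r (by simp)⟩,
        hlD r (by simp), fun e => by simp [e] at hnd, hlc q (by simp) r (by simp)⟩
    have mem : ∀ u ∈ D, ∀ v ∈ nb D u, ∀ w ∈ nb D u ∩ nb D v, u * v * w ∈ D' :=
      fun u hu v hv w hw => by
      obtain ⟨g, hgp, hgq, hgr⟩ := triple_trans hD B hprim h23.1 hp hq hr hu hv hw
      rw [← hgp, ← hgq, ← hgr, show g * p * g⁻¹ * (g * q * g⁻¹) * (g * r * g⁻¹) =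
        g * (p * q * r) * g⁻¹ by group, hx']
      exact conj g
    have hbd : d ∈ nb D b := Cover.mem_nb_symm hd.1.1 hb.1.2
    have hbf : f ∈ nb D b := Cover.mem_nb_symm hf.1.1.1 hb.2
    have h := hset.2 _ (mem a ha b hb.1.1 d ⟨hd.1, hbd⟩) _ (mem c hc d hd.2 f ⟨hf.1.2, hf.2⟩)
    have he : a * b * d * (c * d * f) = a * b * c * f := by
      calc a * b * d * (c * d * f) = a * b * (d * c) * d * f := by simp [mul_assoc]
        _ = a * b * (c * d) * d * f := by rw [hd.2.2.2.eq]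
        _ = a * b * c * f := by
          rw [mul_assoc (a * b), mul_assoc c d d, Basic.sq hD.1 hd.1.1, mul_one]
    rw [he] at h
    exact M22.abc_bad hD.1 ha hb.1.1.1 hc hb.1.1.2.1.symm hb.1.1.2.2 hac hbc
      (Basic.sq hD.1 hf.1.1.1)
      ((hf.1.1.2.2.mul_left hbf.2.2).mul_left hf.1.2.2.2) h

end Cfsg.Agent.ThreeTransp.M23
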