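import Cfsg.Agent.GenA.Tower.Main23
import Cfsg.Agent.Lib.ThreeTransp.FarPair
import Cfsg.Agent.Lib.ThreeTransp.M22.PairClique
import Cfsg.Agent.Lib.ThreeTransp.M22.Products
import Cfsg.Agent.Lib.ThreeTransp.Ortho7

/-!
The joint centraliser of two non-commuting members in a group of type M(23).
-/

set_option autoImplicit false
set_option linter.unusedSectionVars false

namespace Cfsg.Agent.ThreeTransp.M23.Far

open Cfsg.Agent.ThreeTransp
open Cfsg.Agent.ThreeTransp.Factor (nb Hd Sd Dq mem_Hd)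
open Cfsg.Agent.ThreeTransp.Cover (mem_nb_symm conj_nb)
open Cfsg.Agent.GenA.Tower

universe u

variable {G : Type u} [Group G] [Finite G] {D : Set G} (hD : Cfsg.IsThreeTranspositionGroup D)
  (hprim : Cfsg.IsPrimitiveUnderConj D) (h23 : Cfsg.IsOfTypeM23 G D)
  {a d : G} (ha : a ∈ D) (hd : d ∈ D) (hnc : ¬ Commute a d)
include hD hprim h23 ha hd hnc

theorem pair_ncard : (nb D a ∩ nb D d).ncard = 351 :=
  GenA.Tower.M23.ncard_inter hD hprim h23 ha hd hnc

/-- Only the three members of the line commute with all common neighbours. -/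
theorem hull {b : G} (hb : b ∈ D) (hc : ∀ t ∈ nb D a ∩ nb D d, Commute b t) :
    b = a ∨ b = d ∨ b = a * d * a := by
  obtain ⟨w, hw⟩ : (nb D a ∩ nb D d).Nonempty :=
    Set.nonempty_of_ncard_ne_zero (by rw [pair_ncard hD hprim h23 ha hd hnc]; norm_num)
  have hbw : b ≠ w := by
    intro e
    subst e
    have hsub : (nb D a ∩ nb D d) \ {b} ⊆ nb D a ∩ nb D d ∩ nb D b :=
      fun t ht => ⟨ht.1, ht.1.1.1, ht.2, hc t ht.1⟩
    have h1 := Set.ncard_le_ncard hsub
    rw [Set.ncard_sdiff_singleton_of_mem hw, pair_ncard hD hprim h23 ha hd hnc,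
      GenA.Tower.M23.inner_degree hD hprim h23 ha hd hnc hw] at h1
    omega
  have hs := GenA.Tower.M23.sep hD hprim h23 hw.1.1
  have an : a ∈ nb D w := mem_nb_symm ha hw.1
  have cn : d ∈ nb D w := mem_nb_symm hd hw.2
  have bn : b ∈ nb D w := ⟨hb, hbw, (hc w hw).symm⟩
  have key := hull22 (GenA.Tower.M23.grp hD hprim h23 hw.1.1)
    (GenA.Tower.M23.prim hD hprim h23 hw.1.1) (GenA.Tower.M23.t22 hD hprim h23 hw.1.1)
    (pr_mem an) (pr_mem cn) (fun h => hnc ((pr_comm hD an cn).1 h)) (pr_mem bn) (by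
      intro t ht
      obtain ⟨t, ⟨⟨htw, hta⟩, htc⟩, rfl⟩ :
          t ∈ pr D w '' (nb D w ∩ nb D a ∩ nb D d) := by
        rw [image_two hD hs an cn]; exact ht
      exact (pr_comm hD bn htw).2 (hc t ⟨hta, htc⟩))
  rcases key with h | h | h
  · exact Or.inl (pr_inj hs bn an h)
  · exact Or.inr (Or.inl (pr_inj hs bn cn h))
  · right; right
    have hada : a * d * a ∈ nb D w := by
      have := conj_fix_nb hD (RankThree.conj_self_of_commute an.2.2) cn
      rwa [Classes.inv hD ha] at this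
    rw [← pr_mul (mem_Hd an) (mem_Hd cn),
      ← pr_mul (mul_mem (mem_Hd an) (mem_Hd cn)) (mem_Hd an)] at h
    exact pr_inj hs bn hada h

theorem card_cent : Nat.card ↥(Subgroup.centralizer ({a, d} : Set G)) = 4585351680 := by
  have hw := GenA.Tower.M23.exists_comm hD hprim h23
  set C := Subgroup.centralizer ({a} : Set G) with hC
  have himg : (fun k => k * d * k⁻¹) '' (C : Set G) = far D a := by
    ext c
    constructor
    · rintro ⟨k, hk, rfl⟩
      refine ⟨hD.2.1 k d hd, fun h => hnc ?_⟩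
      rw [← M22.conj_eq_self_iff.2 (show Commute k a from
        (Subgroup.mem_centralizer_iff.1 hk a rfl).symm)] at h
      exact (Basic.commute_conj).1 h
    · rintro ⟨hc, hac⟩
      obtain ⟨h, hh, hh'⟩ := RankThree.linked_outer hD hprim hw ha hd hc hnc hac
      exact ⟨h, Subgroup.mem_centralizer_iff.2 fun y hy => by
        rw [Set.mem_singleton_iff.1 hy]; exact (RankThree.loc_commute hh).eq, hh'⟩
  have h := M22.orbit_card C (Subgroup.centralizer ({d} : Set G)) (far D a)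
    (fun k => k * d * k⁻¹) himg fun k _ k' _ => M22.conj_eq_iff
  rw [hC, GenA.Tower.M23.centralizer_eq hD hprim h23 ha, GenA.Tower.M23.card_loc hD hprim h23 ha,
    GenA.Tower.M23.ncard_far hD hprim h23 ha,
    ← GenA.Tower.M23.centralizer_eq hD hprim h23 ha] at h
  have e : Subgroup.centralizer ({a} : Set G) ⊓ Subgroup.centralizer ({d} : Set G) =
      Subgroup.centralizer ({a, d} : Set G) := by
    ext x
    simp [Subgroup.mem_centralizer_iff]
  rw [e] at h
  omega

theorem closure_eq_cent_iso :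
    Subgroup.closure (nb D a ∩ nb D d) = Subgroup.centralizer ({a, d} : Set G) ∧
    Nonempty (↥(Subgroup.centralizer ({a, d} : Set G)) ≃*
      Cfsg.POmega (ZMod 3) (Cfsg.quadFormOdd 3 (ZMod 3))) := by
  have hw := GenA.Tower.M23.exists_comm hD hprim h23
  obtain ⟨-, d', hd', c', hc', hdc', -, c₃, hc₃, hL⟩ := id h23
  obtain ⟨g, hga, hgd⟩ := far_pair hD hprim hw hd' hc' hdc' ha hd hnc
  have hmap : (Subgroup.closure (nb D d' ∩ nb D c')).map (MulAut.conj g).toMonoidHom =
      Subgroup.closure (nb D a ∩ nb D d) := by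
    rw [map_pair (MulAut.conj g) D d' c', image_conj hD, MulAut.conj_apply, MulAut.conj_apply,
      hga, hgd]
  set L := Subgroup.closure (nb D a ∩ nb D d) with hLdef
  have hL' : Cfsg.IsProjReflectionGroupModThree (↥L ⧸ Subgroup.center ↥L) 7 (-c₃) c₃ :=
    Factor.proj_refl_congr (quotCongr (subCongr (MulAut.conj g) hmap)) hL
  have hle : L ≤ Subgroup.centralizer ({a, d} : Set G) :=
    (Subgroup.closure_le _).2 fun y hy =>
      (FarPair.mem_cent_pair hD).2 ⟨hy.1.2.2.symm, hy.2.2.2.symm⟩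
  obtain ⟨hge, hiso⟩ := Ortho7.proj_refl hc₃ hL'
  have hC := card_cent hD hprim h23 ha hd hnc
  have h1 : Nat.card ↥L ≤ Nat.card ↥(Subgroup.centralizer ({a, d} : Set G)) :=
    Nat.le_of_dvd Nat.card_pos (Subgroup.card_dvd_of_le hle)
  have h2 := (Subgroup.center ↥L).card_mul_index
  rw [Subgroup.index] at h2
  have hz : 0 < Nat.card (Subgroup.center ↥L) := Nat.card_pos
  have hz1 : Nat.card (Subgroup.center ↥L) = 1 := by
    by_contra hne
    have := Nat.mul_le_mul (show 2 ≤ Nat.card (Subgroup.center ↥L) by omega) hge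
    omega
  rw [hz1, one_mul] at h2
  obtain ⟨φ⟩ := hiso (by omega)
  have heq : L = Subgroup.centralizer ({a, d} : Set G) :=
    Subgroup.eq_of_le_of_card_ge hle (by omega)
  refine ⟨heq, ⟨(MulEquiv.subgroupCongr heq).symm.trans ?_⟩⟩
  exact ((QuotientGroup.quotientBot (G := ↥L)).symm.trans
    (QuotientGroup.quotientMulEquivOfEq (Subgroup.card_eq_one.1 hz1).symm)).trans φ

theorem width : Cfsg.commutingWidth (nb D a ∩ nb D d) = 7 := by
  classical
  refine IsGreatest.csSup_eq ⟨?_, ?_⟩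
  · obtain ⟨w, hw⟩ : (nb D a ∩ nb D d).Nonempty :=
      Set.nonempty_of_ncard_ne_zero (by rw [pair_ncard hD hprim h23 ha hd hnc]; norm_num)
    have hs := GenA.Tower.M23.sep hD hprim h23 hw.1.1
    have an : a ∈ nb D w := mem_nb_symm ha hw.1
    have cn : d ∈ nb D w := mem_nb_symm hd hw.2
    obtain ⟨E, hE, hcm, hcard⟩ := M22.exists_pair_clique (GenA.Tower.M23.grp hD hprim h23 hw.1.1)
      (GenA.Tower.M23.prim hD hprim h23 hw.1.1) (GenA.Tower.M23.t22 hD hprim h23 hw.1.1)
      (pr_mem an) (pr_mem cn) (fun h => hnc ((pr_comm hD an cn).1 h))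
    rw [← image_two hD hs an cn] at hE
    set P : Set G := {x | x ∈ nb D w ∩ nb D a ∩ nb D d ∧ pr D w x ∈ E}
    have himg : pr D w '' P = E := by
      ext q
      constructor
      · rintro ⟨x, hx, rfl⟩; exact hx.2
      · intro hq
        obtain ⟨x, hx, rfl⟩ := hE hq
        exact ⟨x, ⟨hx, hq⟩, rfl⟩
    refine ⟨insert w P, Set.insert_subset hw fun x hx => ⟨hx.1.1.2, hx.1.2⟩, Set.toFinite _,
      ?_, ?_⟩
    · rintro x (rfl | hx) y (rfl | hy)
      exacts [Commute.refl _, hy.1.1.1.2.2, hx.1.1.1.2.2.symm,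
        (pr_comm hD hx.1.1.1 hy.1.1.1).1 (hcm _ hx.2 _ hy.2)]
    · rw [Set.ncard_insert_of_notMem (fun h => h.1.1.1.2.1 rfl) (Set.toFinite _),
        ← ncard_pr hs (fun x hx => hx.1.1.1), himg, hcard]
  · rintro n ⟨E, hE, -, hcm, rfl⟩
    rcases E.eq_empty_or_nonempty with rfl | ⟨w, hw⟩
    · simp
    have hwD := (hE hw).1.1
    have hs := GenA.Tower.M23.sep hD hprim h23 hwD
    have an : a ∈ nb D w := mem_nb_symm ha (hE hw).1
    have cn : d ∈ nb D w := mem_nb_symm hd (hE hw).2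
    have hsub : E \ {w} ⊆ nb D w ∩ nb D a ∩ nb D d := fun x hx =>
      ⟨⟨⟨(hE hx.1).1.1, hx.2, hcm w hw x hx.1⟩, (hE hx.1).1⟩, (hE hx.1).2⟩
    have h := M22.pair_clique_le (GenA.Tower.M23.grp hD hprim h23 hwD)
      (GenA.Tower.M23.prim hD hprim h23 hwD) (GenA.Tower.M23.t22 hD hprim h23 hwD)
      (pr_mem an) (pr_mem cn) (fun h => hnc ((pr_comm hD an cn).1 h))
      (E := pr D w '' (E \ {w}))
      (by rw [← image_two hD hs an cn]; exact Set.image_mono hsub)
      (by
        rintro _ ⟨x, hx, rfl⟩ _ ⟨y, hy, rfl⟩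
        exact (pr_comm hD (hsub hx).1.1 (hsub hy).1.1).2 (hcm x hx.1 y hy.1))
    rw [ncard_pr hs (fun x hx => (hsub hx).1.1), Set.ncard_sdiff_singleton_of_mem hw] at h
    omega

end Cfsg.Agent.ThreeTransp.M23.Far
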