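import Cfsg.Agent.Lib.ThreeTransp.M22.SixOne
import Cfsg.Prelude.Def_CaseTheorems

/-!
The joint centraliser of two commuting members, and the centraliser of their product, when the
local group at one of them is a group of type M(22) modulo its centre of order two.
-/

set_option autoImplicit false
set_option linter.unusedSectionVars false

namespace Cfsg.Agent.ThreeTransp.M23.Pair

open Cfsg.Agent.ThreeTransp
open Cfsg.Agent.ThreeTransp.Factor (nb Hd Dl Dq Sd Rel mem_Hd grp_Dl grp_Dq)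

variable {G : Type*} [Group G] {D : Set G}

/-- What is used about the member `a`. -/
structure LocalHyp (D : Set G) (a : G) : Prop where
  cent : Subgroup.centralizer ({a} : Set G) = Hd D a
  center : Subgroup.center ↥(Hd D a) = (Subgroup.zpowers a).subgroupOf (Hd D a)
  m22 : Cfsg.IsOfTypeM22 (Sd D a) (Dq D a)
  prim : Cfsg.IsPrimitiveUnderConj (Dq D a)

theorem mem_zpowers_cases (hD : Cfsg.IsThreeTranspositionGroup D) {a z : G} (ha : a ∈ D)
    (hz : z ∈ Subgroup.zpowers a) : z = 1 ∨ z = a := by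
  obtain ⟨j, rfl⟩ := Subgroup.mem_zpowers_iff.1 hz
  rcases Int.even_or_odd j with ⟨r, rfl⟩ | ⟨r, rfl⟩
  · left
    rw [← two_mul, _root_.zpow_mul, _root_.zpow_two, Classes.sq hD ha, _root_.one_zpow]
  · right
    rw [_root_.zpow_add, _root_.zpow_one, _root_.zpow_mul, _root_.zpow_two, Classes.sq hD ha,
      _root_.one_zpow, one_mul]

theorem mem_cent {a k : G} : k ∈ Subgroup.centralizer ({a} : Set G) ↔ Commute a k := by
  rw [Subgroup.mem_centralizer_iff]
  exact ⟨fun h => h a rfl, fun h x hx => by rw [Set.mem_singleton_iff.1 hx]; exact h.eq⟩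

/-- The joint centraliser. -/
abbrev K (a b : G) : Subgroup G := Subgroup.centralizer ({a, b} : Set G)

theorem mem_K {a b k : G} : k ∈ K a b ↔ Commute a k ∧ Commute b k := by
  rw [Subgroup.mem_centralizer_iff]
  exact ⟨fun h => ⟨h a (by simp), h b (by simp)⟩, fun h x hx => by
    rcases Set.mem_insert_iff.1 hx with rfl | hx
    · exact h.1.eq
    · rw [Set.mem_singleton_iff.1 hx]; exact h.2.eq⟩

/-- The image of `b`. -/
def δ {a b : G} (hb : b ∈ nb D a) : Sd D a := QuotientGroup.mk (⟨b, mem_Hd hb⟩ : ↥(Hd D a))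

variable [Finite G] (hD : Cfsg.IsThreeTranspositionGroup D) (h6 : Rel 6 D) {a b : G}
  (ha : a ∈ D) (hb : b ∈ nb D a) (L : LocalHyp D a)
include hD h6 ha hb L

/-- Members with the same image coincide. -/
theorem sep {x y : ↥(Hd D a)} (hx : x ∈ Dl D a) (hy : y ∈ Dl D a)
    (h : (QuotientGroup.mk x : Sd D a) = QuotientGroup.mk y) : x = y := by
  by_contra hne
  have hm := Factor.mk_eq_iff.1 h
  rw [L.center, Subgroup.mem_subgroupOf] at hm
  simp only [Subgroup.coe_mul, InvMemClass.coe_inv] at hm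
  have hxy : (x : G) ≠ y := fun e => hne (Subtype.ext e)
  rcases mem_zpowers_cases hD ha hm with e | e
  · exact hxy (inv_mul_eq_one.1 e)
  rw [Classes.inv hD hx.1] at e
  have hy' : (y : G) = x * a := by
    calc (y : G) = (x : G) * ((x : G) * y) := by rw [← mul_assoc, Classes.sq hD hx.1, one_mul]
      _ = x * a := congrArg _ e
  have hc : Commute (x : G) y := hy' ▸ (Commute.refl (x : G)).mul_right hx.2.2.symm
  refine h6 [(x : G), y, a] ?_ (by simp) (by simp) ?_ ?_ ?_
  · simp [hxy, hx.2.1, hy.2.1]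
  · simp [hx.1, hy.1, ha]
  · simp [hc, hc.symm, hx.2.2, hx.2.2.symm, hy.2.2, hy.2.2.symm]
  · simp only [List.prod_cons, List.prod_nil, mul_one]
    rw [← mul_assoc, e, Classes.sq hD ha]

theorem grp : Cfsg.IsThreeTranspositionGroup (Dq D a) := by
  refine grp_Dq hD fun x hx hxZ => ?_
  rw [L.center, Subgroup.mem_subgroupOf] at hxZ
  rcases mem_zpowers_cases hD ha hxZ with e | e
  · exact Basic.ne_one hD.1 hx.1 e
  · exact hx.2.1 e

theorem δ_mem : δ hb ∈ Dq D a := ⟨_, hb, rfl⟩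

/-- Commuting with the image of `b` is commuting with `b`. -/
theorem commute_δ {g : ↥(Hd D a)} :
    Commute (δ hb) (QuotientGroup.mk g) ↔ Commute b (g : G) := by
  constructor
  · intro h
    have hb' : (⟨b, mem_Hd hb⟩ : ↥(Hd D a)) ∈ Dl D a := hb
    have e := sep hD h6 ha hb L ((grp_Dl hD a).2.1 g _ hb') hb' (by
      show QuotientGroup.mk' _ (g * (⟨b, mem_Hd hb⟩ : ↥(Hd D a)) * g⁻¹) = _
      rw [map_mul, map_mul, map_inv]
      exact mul_inv_eq_iff_eq_mul.2 h.eq.symm)
    have e' : (g : G) * b * (g : G)⁻¹ = b := congrArg Subtype.val e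
    exact (mul_inv_eq_iff_eq_mul.1 e').symm
  · intro h
    exact (show Commute (⟨b, mem_Hd hb⟩ : ↥(Hd D a)) g from Subtype.ext h.eq).map
      (QuotientGroup.mk' _)

theorem K_le : K a b ≤ Hd D a := fun k hk => L.cent ▸ mem_cent.2 (mem_K.1 hk).1

theorem cent_δ : Subgroup.centralizer ({δ hb} : Set (Sd D a)) =
    Hd (Dq D a) (δ hb) :=
  M22.centralizer_eq (grp hD h6 ha hb L) L.prim L.m22 (δ_mem hD h6 ha hb L)

/-- The map to the local group of the image of `b`. -/
def ρ : ↥(K a b) →* ↥(Hd (Dq D a) (δ hb)) :=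
  ((QuotientGroup.mk' _).comp (Subgroup.inclusion (K_le hD h6 ha hb L))).codRestrict _ fun k => by
    rw [← cent_δ hD h6 ha hb L, mem_cent]
    exact (commute_δ hD h6 ha hb L).2 (mem_K.1 k.2).2

theorem ρ_val (k : ↥(K a b)) : (ρ hD h6 ha hb L k : Sd D a) =
    QuotientGroup.mk (Subgroup.inclusion (K_le hD h6 ha hb L) k) := rfl

theorem ρ_surjective : Function.Surjective (ρ hD h6 ha hb L) := by
  rintro ⟨s, hs⟩
  obtain ⟨g, rfl⟩ := QuotientGroup.mk_surjective s
  have hsc : Commute (δ hb) (QuotientGroup.mk g) := by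
    rw [← cent_δ hD h6 ha hb L, mem_cent] at hs; exact hs
  exact ⟨⟨g, mem_K.2 ⟨Factor.Hd_commute g.2, (commute_δ hD h6 ha hb L).1 hsc⟩⟩, Subtype.ext rfl⟩

theorem ρ_eq_one {k : ↥(K a b)} (h : ρ hD h6 ha hb L k = 1) : (k : G) ∈ Subgroup.zpowers a := by
  have h' : (QuotientGroup.mk (Subgroup.inclusion (K_le hD h6 ha hb L) k) : Sd D a) = 1 :=
    congrArg Subtype.val h
  rw [QuotientGroup.eq_one_iff, L.center, Subgroup.mem_subgroupOf] at h'
  exact h'

theorem a_mem : a ∈ K a b := mem_K.2 ⟨Commute.refl a, hb.2.2.symm⟩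

theorem b_mem : b ∈ K a b := mem_K.2 ⟨hb.2.2, Commute.refl b⟩

omit L h6 in
theorem nb_mem {x : G} (hx : x ∈ nb D a ∩ nb D b) : x ∈ K a b :=
  mem_K.2 ⟨hx.1.2.2, hx.2.2.2⟩

/-- Common neighbours are conjugate in the joint centraliser. -/
theorem trans {x y : G} (hx : x ∈ nb D a ∩ nb D b) (hy : y ∈ nb D a ∩ nb D b) :
    ∃ k ∈ K a b, k * x * k⁻¹ = y := by
  have hgrp := grp hD h6 ha hb L
  have mk' : ∀ z (hz : z ∈ nb D a ∩ nb D b), (QuotientGroup.mk (⟨z, mem_Hd hz.1⟩ : ↥(Hd D a)) :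
      Sd D a) ∈ nb (Dq D a) (δ hb) := fun z hz => by
    refine ⟨⟨_, hz.1, rfl⟩, fun e => hz.2.2.1 ?_, (commute_δ hD h6 ha hb L).2 hz.2.2.2⟩
    exact congrArg Subtype.val (sep hD h6 ha hb L hz.1 (show (⟨b, mem_Hd hb⟩ : ↥(Hd D a)) ∈ Dl D a
      from hb) e)
  obtain ⟨g, hg⟩ := Factor.transitive_Dl hgrp L.prim (δ_mem hD h6 ha hb L)
    (M22.exists_commuting hgrp L.prim L.m22) ⟨_, mem_Hd (mk' x hx)⟩ (mk' x hx)
    ⟨_, mem_Hd (mk' y hy)⟩ (mk' y hy)
  obtain ⟨k, rfl⟩ := ρ_surjective hD h6 ha hb L g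
  refine ⟨k, k.2, ?_⟩
  set k' := Subgroup.inclusion (K_le hD h6 ha hb L) k with hk'
  have e := sep hD h6 ha hb L ((grp_Dl hD a).2.1 k' ⟨x, mem_Hd hx.1⟩ hx.1)
    (show (⟨y, mem_Hd hy.1⟩ : ↥(Hd D a)) ∈ Dl D a from hy.1) (by
      have := congrArg Subtype.val hg
      simp only [Subgroup.coe_mul, InvMemClass.coe_inv, ρ_val] at this
      rw [← this]
      rfl)
  exact congrArg Subtype.val e

/-- `a` is a product of six common neighbours. -/
theorem exists_six : ∃ l : List G, l.length = 6 ∧ (∀ x ∈ l, x ∈ nb D a ∩ nb D b) ∧ l.prod = a := by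
  have hgrp := grp hD h6 ha hb L
  obtain ⟨l, hlen, hnd, hmem, hcomm, hprod⟩ :=
    M22.exists_six_one hgrp L.prim L.m22 (δ_mem hD h6 ha hb L)
  have hlift : ∀ s ∈ l, ∃ x : ↥(Hd D a), x ∈ Dl D a ∧ (QuotientGroup.mk x : Sd D a) = s :=
    fun s hs => by
      obtain ⟨x, hx, e⟩ := (hmem s hs).1
      exact ⟨x, hx, e⟩
  choose f hf hfe using hlift
  let m : List ↥(Hd D a) := l.pmap f fun _ h => h
  have hm : m.map QuotientGroup.mk = l := by
    simp only [m, List.map_pmap, hfe]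
    exact (List.pmap_eq_map (f := id) _).trans (List.map_id _)
  have hmD : ∀ x ∈ m, x ∈ Dl D a := fun x hx => by
    obtain ⟨s, hs, rfl⟩ := List.mem_pmap.1 hx
    exact hf s hs
  have hmb : ∀ x ∈ m, (x : G) ∈ nb D a ∩ nb D b := fun x hx => by
    have hx' := hmD x hx
    have hxs : (QuotientGroup.mk x : Sd D a) ∈ nb (Dq D a) (δ hb) :=
      hmem _ (hm ▸ List.mem_map_of_mem hx)
    refine ⟨hx', hx'.1, fun e => hxs.2.1 ?_, (commute_δ hD h6 ha hb L).1 hxs.2.2⟩
    show _ = (QuotientGroup.mk (⟨b, mem_Hd hb⟩ : ↥(Hd D a)) : Sd D a)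
    exact congrArg _ (Subtype.ext e)
  refine ⟨m.map Subtype.val, by simp [m, hlen], fun x hx => ?_, ?_⟩
  · obtain ⟨y, hy, rfl⟩ := List.mem_map.1 hx
    exact hmb y hy
  have hz : m.prod ∈ Subgroup.center ↥(Hd D a) := by
    refine (QuotientGroup.eq_one_iff _).1 ?_
    show QuotientGroup.mk' _ m.prod = 1
    rw [map_list_prod, ← hprod, ← hm]
    rfl
  rw [L.center, Subgroup.mem_subgroupOf, Subgroup.val_list_prod] at hz
  rcases mem_zpowers_cases hD ha hz with e | e
  · exfalso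
    refine h6 (m.map Subtype.val) ?_ (by simp [m, hlen]) (by simp [m, hlen]) ?_ ?_ e
    · exact ((hm ▸ hnd : (m.map QuotientGroup.mk).Nodup).of_map _).map Subtype.val_injective
    · intro x hx
      obtain ⟨y, hy, rfl⟩ := List.mem_map.1 hx
      exact (hmb y hy).1.1
    · intro x hx y hy
      obtain ⟨x', hx', rfl⟩ := List.mem_map.1 hx
      obtain ⟨y', hy', rfl⟩ := List.mem_map.1 hy
      exact Factor.commute_Dl hD (hmD x' hx') (hmD y' hy')
        (hcomm _ (hm ▸ List.mem_map_of_mem hx') _ (hm ▸ List.mem_map_of_mem hy'))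
  · exact e

theorem a_mem_commutator :
    (⟨a, a_mem hD h6 ha hb L⟩ : ↥(K a b)) ∈ commutator ↥(K a b) := by
  obtain ⟨l, hlen, hl, hp⟩ := exists_six hD h6 ha hb L
  obtain ⟨x₀, hx₀⟩ : ∃ x, x ∈ l := List.exists_mem_of_length_pos (by omega)
  set π := QuotientGroup.mk' (commutator ↥(K a b)) with hπ
  have hπc : ∀ x (hx : x ∈ nb D a ∩ nb D b), π ⟨x, nb_mem hD ha hb hx⟩ =
      π ⟨x₀, nb_mem hD ha hb (hl x₀ hx₀)⟩ := by
    intro x hx
    obtain ⟨k, hk, e⟩ := trans hD h6 ha hb L (hl x₀ hx₀) hx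
    have e' : (⟨k, hk⟩ : ↥(K a b)) * ⟨x₀, nb_mem hD ha hb (hl x₀ hx₀)⟩ * ⟨k, hk⟩⁻¹ =
        ⟨x, nb_mem hD ha hb hx⟩ := Subtype.ext e
    rw [← e', map_mul, map_mul, map_inv]
    have hab : ∀ p q : ↥(K a b) ⧸ commutator ↥(K a b), p * q = q * p := fun p q => by
      obtain ⟨p, rfl⟩ := QuotientGroup.mk'_surjective _ p
      obtain ⟨q, rfl⟩ := QuotientGroup.mk'_surjective _ q
      rw [← commutatorElement_eq_one_iff_mul_comm, ← map_commutatorElement]
      exact (QuotientGroup.eq_one_iff _).2 (Subgroup.commutator_mem_commutator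
        (Subgroup.mem_top _) (Subgroup.mem_top _))
    rw [hab (π ⟨k, hk⟩), mul_inv_cancel_right]
  let m : List ↥(K a b) := l.pmap Subtype.mk fun x hx => nb_mem hD ha hb (hl x hx)
  have hm : m.map Subtype.val = l := by
    rw [List.map_pmap]; exact (List.pmap_eq_map (f := id) _).trans (List.map_id _)
  have hmp : m.prod = ⟨a, a_mem hD h6 ha hb L⟩ :=
    Subtype.ext (by rw [Subgroup.val_list_prod, hm, hp])
  rw [← hmp, ← QuotientGroup.eq_one_iff (N := commutator ↥(K a b))]
  show π m.prod = 1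
  rw [map_list_prod, List.map_eq_replicate_iff.2 (fun y hy => hπc y.1 (hl y.1
    (hm ▸ List.mem_map_of_mem hy))), List.prod_replicate, List.length_pmap, hlen,
    show 6 = 2 * 3 by rfl, pow_mul, ← map_pow, pow_two]
  rw [show (⟨x₀, _⟩ : ↥(K a b)) * ⟨x₀, _⟩ = 1 from Subtype.ext (Classes.sq hD (hl x₀ hx₀).1.1),
    map_one, one_pow]

theorem perfect : commutator ↥(K a b) = ⊤ := by
  rw [eq_top_iff]
  intro k _
  have hmap : (commutator ↥(K a b)).map (ρ hD h6 ha hb L) = ⊤ := by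
    rw [commutator_def, Subgroup.map_commutator,
      Subgroup.map_top_of_surjective _ (ρ_surjective hD h6 ha hb L), ← commutator_def]
    exact M22.perfect_Hd (grp hD h6 ha hb L) L.prim L.m22 (δ_mem hD h6 ha hb L)
  obtain ⟨c, hc, hck⟩ : ρ hD h6 ha hb L k ∈ (commutator ↥(K a b)).map (ρ hD h6 ha hb L) :=
    hmap ▸ Subgroup.mem_top _
  have hz := ρ_eq_one hD h6 ha hb L (k := c⁻¹ * k) (by rw [map_mul, map_inv, hck, inv_mul_cancel])
  rw [show k = c * (c⁻¹ * k) by group]
  refine mul_mem hc ?_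
  rcases mem_zpowers_cases hD ha hz with e | e
  · rw [show c⁻¹ * k = 1 from Subtype.ext e]; exact one_mem _
  · rw [show c⁻¹ * k = ⟨a, a_mem hD h6 ha hb L⟩ from Subtype.ext e]
    exact a_mem_commutator hD h6 ha hb L

theorem center_map :
    (Subgroup.center ↥(K a b)).map (K a b).subtype = Subgroup.closure ({a, b} : Set G) := by
  refine le_antisymm ?_ ((Subgroup.closure_le _).2 ?_)
  · rintro _ ⟨z, hz, rfl⟩
    have hρ : ρ hD h6 ha hb L z ∈ Subgroup.center ↥(Hd (Dq D a) (δ hb)) := by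
      rw [Subgroup.mem_center_iff]
      intro g
      obtain ⟨k, rfl⟩ := ρ_surjective hD h6 ha hb L g
      rw [← map_mul, ← map_mul, Subgroup.mem_center_iff.1 hz k]
    rw [M22.center_eq (grp hD h6 ha hb L) L.prim L.m22 (δ_mem hD h6 ha hb L),
      Subgroup.mem_subgroupOf] at hρ
    have ha' : a ∈ Subgroup.closure ({a, b} : Set G) := Subgroup.subset_closure (by simp)
    have hb' : b ∈ Subgroup.closure ({a, b} : Set G) := Subgroup.subset_closure (by simp)
    have hle : Subgroup.zpowers a ≤ Subgroup.closure ({a, b} : Set G) :=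
      Subgroup.zpowers_le.2 ha'
    rcases mem_zpowers_cases (grp hD h6 ha hb L) (δ_mem hD h6 ha hb L) hρ with e | e
    · exact hle (ρ_eq_one hD h6 ha hb L (Subtype.ext e))
    · have hz' := ρ_eq_one hD h6 ha hb L
        (k := (⟨b, b_mem hD h6 ha hb L⟩ : ↥(K a b))⁻¹ * z) (Subtype.ext (by
          rw [map_mul, map_inv, Subgroup.coe_mul, InvMemClass.coe_inv, e, OneMemClass.coe_one,
            inv_mul_eq_one]
          rfl))
      have := mul_mem hb' (hle hz')
      simpa using this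
  · intro x hx
    have hxK : x ∈ K a b := by
      rcases Set.mem_insert_iff.1 hx with rfl | hx
      · exact a_mem hD h6 ha hb L
      · rw [Set.mem_singleton_iff.1 hx]; exact b_mem hD h6 ha hb L
    refine ⟨⟨x, hxK⟩, Subgroup.mem_center_iff.2 fun k => Subtype.ext ?_, rfl⟩
    rcases Set.mem_insert_iff.1 hx with rfl | hx'
    · exact (mem_K.1 k.2).1.eq.symm
    · have hxb := Set.mem_singleton_iff.1 hx'
      have h2 : Commute x (k : G) := by
        have h3 := (mem_K.1 k.2).2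
        rw [hxb]
        exact h3
      exact h2.eq.symm

/-- The joint centraliser modulo its centre. -/
theorem quotient_iso : ∃ (F : Type) (_ : Field F) (_ : Fintype F), Fintype.card F = 4 ∧
    Nonempty (↥(K a b) ⧸ Subgroup.center ↥(K a b) ≃* Cfsg.PSU 6 F 2) := by
  obtain ⟨-, -, hat⟩ := Factor.M22_core (grp hD h6 ha hb L) L.m22
  obtain ⟨-, -, F, i1, i2, hF, ⟨φ⟩⟩ := hat _ (δ_mem hD h6 ha hb L)
  let ψ : ↥(K a b) →* Sd (Dq D a) (δ hb) := (QuotientGroup.mk' _).comp (ρ hD h6 ha hb L)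
  have hψs : Function.Surjective ψ :=
    (QuotientGroup.mk'_surjective _).comp (ρ_surjective hD h6 ha hb L)
  have hker : ψ.ker = Subgroup.center ↥(K a b) := by
    refine le_antisymm ?_ ?_
    · intro z hz
      have hz' : ρ hD h6 ha hb L z ∈ Subgroup.center _ := (QuotientGroup.eq_one_iff _).1 hz
      rw [Subgroup.mem_center_iff]
      intro k
      have hc : Commute (ρ hD h6 ha hb L k) (ρ hD h6 ha hb L z) :=
        Subgroup.mem_center_iff.1 hz' _
      rw [M22.center_eq (grp hD h6 ha hb L) L.prim L.m22 (δ_mem hD h6 ha hb L),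
        Subgroup.mem_subgroupOf] at hz'
      rcases mem_zpowers_cases (grp hD h6 ha hb L) (δ_mem hD h6 ha hb L) hz' with e | e
      · rcases mem_zpowers_cases hD ha (ρ_eq_one hD h6 ha hb L (Subtype.ext e)) with e' | e'
        · rw [show z = 1 from Subtype.ext e', one_mul, mul_one]
        · exact Subtype.ext (by
            simp only [Subgroup.coe_mul, e']; exact (mem_K.1 k.2).1.eq.symm)
      · have hz'' := ρ_eq_one hD h6 ha hb L
          (k := (⟨b, b_mem hD h6 ha hb L⟩ : ↥(K a b))⁻¹ * z) (Subtype.ext (by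
            rw [map_mul, map_inv, Subgroup.coe_mul, InvMemClass.coe_inv, e, OneMemClass.coe_one,
              inv_mul_eq_one]
            rfl))
        refine Subtype.ext ?_
        simp only [Subgroup.coe_mul, InvMemClass.coe_inv] at hz'' ⊢
        obtain ⟨w, hw⟩ : ∃ w, w = b⁻¹ * (z : G) := ⟨_, rfl⟩
        have hzb : (z : G) = b * w := by rw [hw]; group
        rw [← hw] at hz''
        rw [hzb]
        rcases mem_zpowers_cases hD ha hz'' with e' | e'
        · rw [e', mul_one]; exact (mem_K.1 k.2).2.eq.symm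
        · rw [e']; exact ((mem_K.1 k.2).2.mul_left (mem_K.1 k.2).1).eq.symm
    · intro z hz
      refine (QuotientGroup.eq_one_iff _).2 (Subgroup.mem_center_iff.2 fun g => ?_)
      obtain ⟨k, rfl⟩ := ρ_surjective hD h6 ha hb L g
      rw [← map_mul, ← map_mul, Subgroup.mem_center_iff.1 hz k]
  exact ⟨F, i1, i2, hF, ⟨((QuotientGroup.quotientMulEquivOfEq hker.symm).trans
    (QuotientGroup.quotientKerEquivOfSurjective ψ hψs)).trans φ⟩⟩

section

variable (hprim : Cfsg.IsPrimitiveUnderConj D)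

omit h6 L in
include hprim in
/-- The two members are interchanged. -/
theorem exists_swap : ∃ g : G, g * a * g⁻¹ = b ∧ g * b * g⁻¹ = a := by
  have hw : ∃ x ∈ D, ∃ y ∈ D, x ≠ y ∧ Commute x y := ⟨a, ha, b, hb.1, hb.2.1.symm, hb.2.2⟩
  obtain ⟨g, hg⟩ := hprim.1 a ha b hb.1
  have hn := Cover.conj_nb hD g hb
  rw [hg] at hn
  obtain ⟨k, hk, hke⟩ := RankThree.linked_inner hD hprim hw
    (Primitive.cores_central hD hprim hw).1 hb.1 hn.1 ha hn.2.2 hb.2.2.symm hn.2.1 hb.2.1.symm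
  refine ⟨k * g, ?_, ?_⟩
  · rw [show k * g * a * (k * g)⁻¹ = k * (g * a * g⁻¹) * k⁻¹ by group, hg,
      RankThree.conj_self_of_commute (RankThree.loc_commute hk)]
  · rw [show k * g * b * (k * g)⁻¹ = k * (g * b * g⁻¹) * k⁻¹ by group]
    exact hke

omit h6 L hb ha hD in
theorem K_le_cent : K a b ≤ Subgroup.centralizer ({a * b} : Set G) := fun k hk =>
  mem_cent.2 ((mem_K.1 hk).1.mul_left (mem_K.1 hk).2)

omit L in
theorem cent_cases {x : G} (hx : x ∈ Subgroup.centralizer ({a * b} : Set G)) :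
    (x * a * x⁻¹ = a ∧ x * b * x⁻¹ = b) ∨ (x * a * x⁻¹ = b ∧ x * b * x⁻¹ = a) := by
  have hn := Cover.conj_nb hD x hb
  refine Factor.pair_unique hD (fun l h1 h2 h3 => h6 l h1 h2 (h3.trans (by norm_num))) ha hb.1
    (hD.2.1 x a ha) hn.1 hb.2.1.symm hn.2.1.symm hb.2.2 hn.2.2 ?_
  rw [show x * a * x⁻¹ * (x * b * x⁻¹) = x * (a * b) * x⁻¹ by group]
  exact (mul_inv_eq_iff_eq_mul.2 (mem_cent.1 hx).eq.symm).symm

omit L in
theorem cent_K {x : G} : x ∈ K a b ↔ x * a * x⁻¹ = a ∧ x * b * x⁻¹ = b := by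
  rw [mem_K, mul_inv_eq_iff_eq_mul, mul_inv_eq_iff_eq_mul]
  exact ⟨fun h => ⟨h.1.eq.symm, h.2.eq.symm⟩, fun h => ⟨h.1.symm, h.2.symm⟩⟩

omit L in
include hprim in
theorem index_two :
    ((K a b).subgroupOf (Subgroup.centralizer ({a * b} : Set G))).index = 2 := by
  obtain ⟨g, hga, hgb⟩ := exists_swap hD ha hb hprim
  have hg : g ∈ Subgroup.centralizer ({a * b} : Set G) := by
    rw [mem_cent]
    refine (mul_inv_eq_iff_eq_mul.1 ?_).symm
    rw [show g * (a * b) * g⁻¹ = g * a * g⁻¹ * (g * b * g⁻¹) by group, hga, hgb, hb.2.2.eq]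
  rw [Subgroup.index_eq_two_iff]
  refine ⟨⟨g, hg⟩, fun x => ?_⟩
  simp only [Subgroup.mem_subgroupOf, Subgroup.coe_mul]
  have hab : a ≠ b := hb.2.1.symm
  have hxg : ∀ t : G, (x : G) * g * t * ((x : G) * g)⁻¹ = x * (g * t * g⁻¹) * (x : G)⁻¹ :=
    fun t => by group
  rw [cent_K hD h6 ha hb, cent_K hD h6 ha hb, hxg, hxg, hga, hgb]
  rcases cent_cases hD h6 ha hb x.2 with ⟨h1, h2⟩ | ⟨h1, h2⟩
  · exact Or.inr ⟨⟨h1, h2⟩, fun h => hab (h.2.symm.trans h1).symm⟩
  · exact Or.inl ⟨⟨h2, h1⟩, fun h => hab (h.1.symm.trans h1)⟩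

/-- An element centralising the joint centraliser modulo the centre lies in it. -/
theorem center_quot {z : G} (hz : z ∈ Subgroup.centralizer ({a * b} : Set G))
    (hc : ∀ k ∈ K a b, z⁻¹ * k⁻¹ * z * k ∈ Subgroup.closure ({a, b} : Set G)) :
    z ∈ Subgroup.closure ({a, b} : Set G) := by
  have hcl : ∀ v ∈ Subgroup.closure ({a, b} : Set G), v = 1 ∨ v = a ∨ v = b ∨ v = a * b := by
    intro v hv
    have hba : b * a = a * b := hb.2.2.eq.symm
    have ha2 := Classes.sq hD ha
    have hb2 := Classes.sq hD hb.1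
    have e1 : a * (a * b) = b := by rw [← mul_assoc, ha2, one_mul]
    have e2 : b * (a * b) = a := by rw [← mul_assoc, hba, mul_assoc, hb2, mul_one]
    induction hv using Subgroup.closure_induction_left with
    | one => exact Or.inl rfl
    | mul_left x hx y _ h =>
      rcases Set.mem_insert_iff.1 hx with rfl | hx
      · rcases h with rfl | rfl | rfl | rfl <;> simp [ha2, e1]
      · rw [Set.mem_singleton_iff.1 hx]
        rcases h with rfl | rfl | rfl | rfl <;> simp [hb2, hba, e2]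
    | inv_mul_cancel x hx y _ h =>
      rcases Set.mem_insert_iff.1 hx with rfl | hx
      · rw [Classes.inv hD ha]
        rcases h with rfl | rfl | rfl | rfl <;> simp [ha2, e1]
      · rw [Set.mem_singleton_iff.1 hx, Classes.inv hD hb.1]
        rcases h with rfl | rfl | rfl | rfl <;> simp [hb2, hba, e2]
  have hfix : ∀ x ∈ nb D a ∩ nb D b, Commute z x := by
    intro x hx
    have hzK : z⁻¹ * x * z ∈ D := Classes.inv_conj_mem hD z hx.1.1
    rcases hcl _ (hc x (nb_mem hD ha hb hx)) with e | e | e | e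
    all_goals rw [Classes.inv hD hx.1.1] at e
    · calc z * x = z * ((z⁻¹ * x * z * x) * x) := by rw [e, one_mul]
        _ = x * z * (x * x) := by group
        _ = x * z := by rw [Classes.sq hD hx.1.1, mul_one]
    all_goals
      exfalso
      have e' : z⁻¹ * x * z = _ * x := eq_mul_inv_of_mul_eq e |>.trans
        (by rw [Classes.inv hD hx.1.1])
      generalize z⁻¹ * x * z = y at hzK e'
      subst e'
    · have hn : a * x ≠ x := fun h => Basic.ne_one hD.1 ha (mul_eq_right.1 h)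
      refine h6 [a * x, a, x] ?_ (by simp) (by simp) ?_ ?_ ?_
      · simp [hn, hx.1.2.1.symm, Basic.ne_one hD.1 hx.1.1]
      · simp [hzK, ha, hx.1.1]
      · simp [hx.1.2.2, hx.1.2.2.symm,
          (Commute.refl a).mul_left hx.1.2.2.symm,
          ((Commute.refl a).mul_left hx.1.2.2.symm).symm,
          hx.1.2.2.mul_left (Commute.refl x), (hx.1.2.2.mul_left (Commute.refl x)).symm]
      · simp only [List.prod_cons, List.prod_nil, mul_one]
        calc a * x * (a * x) = (a * x) ^ 2 := (pow_two _).symm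
          _ = a ^ 2 * x ^ 2 := hx.1.2.2.mul_pow _
          _ = 1 := by rw [pow_two, pow_two, Classes.sq hD ha, Classes.sq hD hx.1.1, one_mul]
    · have hn : b * x ≠ x := fun h => Basic.ne_one hD.1 hb.1 (mul_eq_right.1 h)
      refine h6 [b * x, b, x] ?_ (by simp) (by simp) ?_ ?_ ?_
      · simp [hn, hx.2.2.1.symm, Basic.ne_one hD.1 hx.1.1]
      · simp [hzK, hb.1, hx.1.1]
      · simp [hx.2.2.2, hx.2.2.2.symm,
          (Commute.refl b).mul_left hx.2.2.2.symm,
          ((Commute.refl b).mul_left hx.2.2.2.symm).symm,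
          hx.2.2.2.mul_left (Commute.refl x), (hx.2.2.2.mul_left (Commute.refl x)).symm]
      · simp only [List.prod_cons, List.prod_nil, mul_one]
        calc b * x * (b * x) = (b * x) ^ 2 := (pow_two _).symm
          _ = b ^ 2 * x ^ 2 := hx.2.2.2.mul_pow _
          _ = 1 := by rw [pow_two, pow_two, Classes.sq hD hb.1, Classes.sq hD hx.1.1, one_mul]
    · have cabx : Commute (a * b) x := hx.1.2.2.mul_left hx.2.2.2
      have habsq : (a * b) * (a * b) = 1 := by
        rw [mul_assoc, ← mul_assoc b, ← hb.2.2.eq, mul_assoc a b b, Classes.sq hD hb.1, mul_one,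
          Classes.sq hD ha]
      have n1 : a * b * x ≠ a := fun h => hx.2.2.1 (by
        rw [mul_assoc] at h
        rw [eq_inv_of_mul_eq_one_right (mul_eq_left.1 h), Classes.inv hD hb.1])
      have n2 : a * b * x ≠ b := fun h => hx.1.2.1 (by
        rw [hb.2.2.eq, mul_assoc] at h
        rw [eq_inv_of_mul_eq_one_right (mul_eq_left.1 h), Classes.inv hD ha])
      have n3 : a * b * x ≠ x := fun h => hb.2.1 (by
        rw [eq_inv_of_mul_eq_one_right (mul_eq_right.1 h), Classes.inv hD ha])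
      refine h6 [a * b * x, a, b, x] ?_ (by simp) (by simp) ?_ ?_ ?_
      · simp [n1, n2, n3, hb.2.1.symm, hx.1.2.1.symm, hx.2.2.1.symm]
      · simp [hzK, ha, hb.1, hx.1.1]
      · have c1 : Commute (a * b * x) a :=
          ((Commute.refl a).mul_left hb.2.2.symm).mul_left hx.1.2.2.symm
        have c2 : Commute (a * b * x) b :=
          (hb.2.2.mul_left (Commute.refl b)).mul_left hx.2.2.2.symm
        have c3 : Commute (a * b * x) x := cabx.mul_left (Commute.refl x)
        simp [c1, c1.symm, c2, c2.symm, c3, c3.symm, hb.2.2, hb.2.2.symm, hx.1.2.2,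
          hx.1.2.2.symm, hx.2.2.2, hx.2.2.2.symm]
      · simp only [List.prod_cons, List.prod_nil, mul_one]
        rw [show a * b * x * (a * (b * x)) = a * b * x * (a * b * x) by simp [mul_assoc],
          ← pow_two, cabx.mul_pow, pow_two, pow_two, habsq, Classes.sq hD hx.1.1, one_mul]
  obtain ⟨l, -, hl, hp⟩ := exists_six hD h6 ha hb L
  have hza : Commute z a := by
    rw [← hp]
    exact Commute.list_prod_right _ _ fun x hx => hfix x (hl x hx)
  have hzK : z ∈ K a b := by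
    rw [cent_K hD h6 ha hb]
    rcases cent_cases hD h6 ha hb hz with h | ⟨h, -⟩
    · exact h
    · rw [mul_inv_eq_iff_eq_mul.2 hza.eq] at h
      exact absurd h hb.2.1.symm
  obtain ⟨F, i1, i2, hF, ⟨φ⟩⟩ := quotient_iso hD h6 ha hb L
  have hc' := (Factor.simple_of_iso (S := ↥(K a b) ⧸ Subgroup.center ↥(K a b))
    (by rw [hF]; norm_num) φ).2.2.2
  rw [← center_map hD h6 ha hb L]
  refine ⟨⟨z, hzK⟩, (QuotientGroup.eq_one_iff (N := Subgroup.center ↥(K a b))
    (⟨z, hzK⟩ : ↥(K a b))).1 ?_, rfl⟩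
  rw [← Subgroup.mem_bot, ← hc', Subgroup.mem_center_iff]
  intro q
  obtain ⟨k, rfl⟩ := QuotientGroup.mk_surjective q
  rw [← QuotientGroup.mk_mul, ← QuotientGroup.mk_mul, QuotientGroup.eq]
  have hm : (((k * ⟨z, hzK⟩)⁻¹ * (⟨z, hzK⟩ * k) : ↥(K a b)) : G) ∈
      Subgroup.closure ({a, b} : Set G) := by
    simp only [Subgroup.coe_mul, InvMemClass.coe_inv]
    rw [show ((k : G) * z)⁻¹ * (z * k) = z⁻¹ * (k : G)⁻¹ * z * k by group]
    exact hc k k.2
  rw [← center_map hD h6 ha hb L] at hm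
  obtain ⟨w, hw, hwe⟩ := hm
  rwa [← Subtype.ext (show (w : G) = _ from hwe)]

end

end Cfsg.Agent.ThreeTransp.M23.Pair
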